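import Groth.Agent.Lib.DCompact16.Proj
import Groth.Agent.Lib.RFPlus.Adapted
import Groth.Agent.Lib.ExtDerived.Basic
import Mathlib.Algebra.Homology.HomotopyCategory.HomComplexSingle
import Mathlib.Algebra.Homology.DerivedCategory.DerivabilityStructureInjectives
import Mathlib.Algebra.Homology.ShortComplex.Ab

/-! Compactness for uniformly bounded below families: objects `P` with `Hom(P, -)` finitely supported on sums
and no higher Ext into sums of injectives. -/

set_option autoImplicit false
set_option linter.style.haveILetI false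
set_option linter.unusedSectionVars false
set_option backward.isDefEq.respectTransparency false
set_option backward.isDefEq.respectTransparency.types false

universe w v u

open CategoryTheory CategoryTheory.Limits DerivedCategory Opposite Pretriangulated
open CochainComplex.HomComplex

namespace Groth.Agent.DCompact16

variable {A : Type u} [Category.{v} A] [Abelian A] [IsGrothendieckAbelian.{v} A]

/-- `Hom(P, -)`-acyclic objects. -/
def IsHomAcyclic (P X : A) : Prop := RFPlus.IsAcyclicObj (preadditiveCoyoneda.obj (op P)) X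

theorem isHomAcyclic_of_ext [HasExt.{v} A] (P X : A)
    (h : ∀ i : ℕ, 0 < i → Subsingleton (Abelian.Ext.{v} P X i)) : IsHomAcyclic P X := fun i hi => by
  haveI := h i hi
  exact (AddCommGrpCat.isZero_of_subsingleton _).of_iso (ExtDerived.rightDerivedCoyonedaIso P i X)

/-- A chain map from an object in degree zero is null homotopic if `Hom(P, C)` is acyclic. -/
theorem nullHomotopic_single (P : A) (C : CochainComplex A ℤ)
    (hF : (((preadditiveCoyoneda.obj (op P)).mapHomologicalComplex (ComplexShape.up ℤ)).obj C).Acyclic)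
    (g : (CochainComplex.singleFunctor A 0).obj P ⟶ C) :
    Nonempty (Homotopy g 0) := by
  let F := preadditiveCoyoneda.obj (op P)
  let g0 : P ⟶ C.X 0 := (HomologicalComplex.singleObjXSelf (ComplexShape.up ℤ) 0 P).inv ≫ g.f 0
  have e : Cochain.ofHom g = Cochain.fromSingleMk g0 (zero_add 0) :=
    (Cochain.fromSingleEquiv (zero_add 0)).injective (by simp [Cochain.fromSingleEquiv, g0])
  have hd : g0 ≫ C.d 0 1 = 0 := by
    simp [g0, g.comm]
  obtain ⟨h, hh⟩ := (ShortComplex.ab_exact_iff _).1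
    (((F.mapHomologicalComplex (ComplexShape.up ℤ)).obj C).exactAt_iff' (-1) 0 1 (by simp) (by simp) |>.1 (hF 0))
    g0 hd
  refine ⟨(Cochain.equivHomotopy g 0).symm ⟨Cochain.fromSingleMk h (show (0:ℤ) + (-1) = -1 by omega), ?_⟩⟩
  rw [Cochain.δ_fromSingleMk h _ 0 0 (zero_add 0), e, Cochain.ofHom_zero, add_zero]
  exact congrArg (fun x => Cochain.fromSingleMk x (zero_add 0)) hh.symm

theorem isHomAcyclic_mappingCone (P : A) {L J : CochainComplex A ℤ} [∀ n, Injective (J.X n)] (j : L ⟶ J)
    (hL : ∀ m, IsHomAcyclic P (L.X m)) (m : ℤ) : IsHomAcyclic P ((CochainComplex.mappingCone j).X m) := fun i hi =>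
  (RFPlus.isAcyclicObj_biprod _ _ _ (hL (m + 1)) (RFPlus.isAcyclicObj_injective _ (J.X m)) i hi).of_iso
    (((preadditiveCoyoneda.obj (op P)).rightDerived i).mapIso
      (HomologicalComplex.homotopyCofiber.XIsoBiprod j m (m + 1) rfl))

variable [HasDerivedCategory.{w} A]

/-- Maps from an object in degree zero into `Q L` come from chain maps, given a resolution with `Hom(P, cone)` acyclic. -/
theorem exists_map_eq_of_cone (P : A) {L J : CochainComplex A ℤ} [J.IsKInjective] (j : L ⟶ J) [QuasiIso j]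
    (hF : (((preadditiveCoyoneda.obj (op P)).mapHomologicalComplex (ComplexShape.up ℤ)).obj
      (CochainComplex.mappingCone j)).Acyclic)
    (f : Q.obj ((CochainComplex.singleFunctor A 0).obj P) ⟶ Q.obj L) :
    ∃ φ, Q.map φ = f := by
  haveI : IsIso (Q.map j) := by rw [DerivedCategory.isIso_Q_map_iff_quasiIso]; infer_instance
  obtain ⟨φ, hφ⟩ := KInjLib.exists_map_eq (f ≫ Q.map j)
  obtain ⟨H⟩ := nullHomotopic_single P (CochainComplex.mappingCone j) hF
    (φ ≫ CochainComplex.mappingCone.inr j)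
  let π := HomotopyCategory.quotient A (ComplexShape.up ℤ)
  obtain ⟨g, hg⟩ := Triangle.coyoneda_exact₂ _ (HomotopyCategory.mappingCone_triangleh_distinguished j)
    (π.map φ) ((π.map_comp _ _).symm.trans ((HomotopyCategory.eq_of_homotopy _ _ H).trans (π.map_zero _ _)))
  obtain ⟨ψ, rfl⟩ := π.map_surjective g
  refine ⟨ψ, ?_⟩
  rw [← cancel_mono (Q.map j), ← hφ, ← Q.map_comp]
  exact (KInjLib.map_eq_iff _ _).2 ⟨HomotopyCategory.homotopyOfEq _ _ ((π.map_comp _ _).trans hg.symm)⟩

/-- Maps from an object in degree zero to a bounded below complex of acyclic objects come from chain maps. -/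
theorem exists_map_eq_single (P : A) (L : CochainComplex A ℤ) (a : ℤ) [L.IsStrictlyGE (a + 1)]
    (hL : ∀ m, IsHomAcyclic P (L.X m)) (f : Q.obj ((CochainComplex.singleFunctor A 0).obj P) ⟶ Q.obj L) :
    ∃ φ, Q.map φ = f := by
  obtain ⟨J, j, hJ, hj, hge⟩ : ∃ (J : CochainComplex A ℤ) (j : L ⟶ J), (∀ n, Injective (J.X n)) ∧ QuasiIso j ∧
      J.IsStrictlyGE (a + 1) := by
    obtain ⟨J, i, _, _, _⟩ := CochainComplex.Plus.modelCategoryQuillen.exists_quasiIso_injective L (a + 1)
    exact ⟨J, i, inferInstance, inferInstance, inferInstance⟩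
  haveI := hJ; haveI := hge; haveI := hj
  haveI : J.IsKInjective := CochainComplex.isKInjective_of_injective J (a + 1)
  haveI : J.IsStrictlyGE a := J.isStrictlyGE_of_ge a (a + 1) (by omega)
  haveI : (CochainComplex.mappingCone j).IsStrictlyGE a := by
    rw [CochainComplex.isStrictlyGE_iff]
    intro i hi
    rw [CochainComplex.mappingCone.isZero_X_iff]
    exact ⟨L.isZero_of_isStrictlyGE (a + 1) _ (by omega), J.isZero_of_isStrictlyGE a _ hi⟩
  refine exists_map_eq_of_cone P j ?_ f
  let F := preadditiveCoyoneda.obj (op P)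
  exact RFPlus.acyclic_map_of_class F (RFPlus.IsAcyclicObj F)
    (fun S hS => RFPlus.isAcyclicObj_cokernel F S hS)
    (fun Z hZ => haveI : Injective Z := hZ.injective; RFPlus.isAcyclicObj_injective F Z) _ a
    (isHomAcyclic_mappingCone P j hL) ((RFPlus.quasiIso_iff_acyclic_cone j).1 hj)

open scoped Classical in
/-- Finite support of maps from `P` into sums of uniformly bounded below families. -/
theorem finFac_singleFunctor_of_isGE (P : A) {ι : Type v} (M : ι → DerivedCategory A) [HasCoproduct M]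
    (a : ℤ) (hM : ∀ i, (M i).IsGE a) (hfin : ∀ (F : ι → A) (f : P ⟶ ∐ F), FinSupp F f)
    (hP : ∀ (F : ι → A), (∀ i, Injective (F i)) → IsHomAcyclic P (∐ F))
    (f : (singleFunctor A 0).obj P ⟶ ∐ M) : FinSupp M f := by
  have hK : ∀ i, ∃ K : CochainComplex A ℤ, K.IsStrictlyGE a ∧ (∀ n, Injective (K.X n)) ∧ Nonempty (Q.obj K ≅ M i) := by
    intro i
    haveI := hM i
    obtain ⟨L, hL, ⟨e⟩⟩ := DerivedCategory.exists_iso_Q_obj_of_isGE (M i) a
    obtain ⟨K, j, _, _, _⟩ := CochainComplex.Plus.modelCategoryQuillen.exists_quasiIso_injective L a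
    haveI : IsIso (Q.map j) := by rw [DerivedCategory.isIso_Q_map_iff_quasiIso]; infer_instance
    exact ⟨K, inferInstance, inferInstance, ⟨(asIso (Q.map j)).symm ≪≫ e.symm⟩⟩
  choose K hKge hKinj ε using hK
  replace ε := fun i => (ε i).some
  let L := ∐ K
  have hLX : ∀ m, IsHomAcyclic P (L.X m) := fun m i hi =>
    (hP (fun t => (K t).X m) (fun t => hKinj t m) i hi).of_iso
      (((preadditiveCoyoneda.obj (op P)).rightDerived i).mapIso
        (PreservesCoproduct.iso (HomologicalComplex.eval A (ComplexShape.up ℤ) m) K))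
  haveI : L.IsStrictlyGE (a - 1 + 1) := by
    rw [CochainComplex.isStrictlyGE_iff]
    intro i hi
    refine IsZero.of_iso ?_ (PreservesCoproduct.iso (HomologicalComplex.eval A (ComplexShape.up ℤ) i) K)
    rw [IsZero.iff_id_eq_zero]
    exact Sigma.hom_ext _ _ fun t => ((K t).isZero_of_isStrictlyGE a i (by omega)).eq_of_src _ _
  let θ : ∐ M ⟶ Q.obj L := Sigma.desc fun i => (ε i).inv ≫ Q.map (Sigma.ι K i)
  let θ' : Q.obj L ⟶ ∐ M :=
    Cofan.IsColimit.desc (KInjLib.isColimitSigma K) fun i => (ε i).hom ≫ Sigma.ι M i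
  have hθ' : ∀ i, Q.map (Sigma.ι K i) ≫ θ' = (ε i).hom ≫ Sigma.ι M i := fun i =>
    Cofan.IsColimit.fac (KInjLib.isColimitSigma K) _ i
  have h1 : θ ≫ θ' = 𝟙 _ := Sigma.hom_ext _ _ fun i => by
    simp only [θ, Sigma.ι_desc_assoc, Category.assoc, hθ', Iso.inv_hom_id_assoc, Category.comp_id]
  obtain ⟨φ, hφ⟩ := exists_map_eq_single P L (a - 1) hLX
    (show Q.obj ((CochainComplex.singleFunctor A 0).obj P) ⟶ Q.obj L from f ≫ θ)
  obtain ⟨s, hs⟩ := finFac_single P K hfin φ
  refine ⟨s, ?_⟩
  have h2 : fproj M s = θ ≫ Q.map (fproj K s) ≫ θ' := Sigma.hom_ext _ _ fun i => by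
    simp only [θ, Sigma.ι_desc_assoc, Category.assoc, ι_fproj]
    rw [← Q.map_comp_assoc, ι_fproj]
    split_ifs
    · rw [hθ', Iso.inv_hom_id_assoc]
    · simp
  rw [h2, ← Category.assoc f θ, ← Category.assoc (f ≫ θ)]
  have h3 : (f ≫ θ) ≫ Q.map (fproj K s) = f ≫ θ := by
    change (show Q.obj ((CochainComplex.singleFunctor A 0).obj P) ⟶ Q.obj L from f ≫ θ) ≫ _ = _
    rw [← hφ]
    exact ((Q.map_comp _ _).symm.trans (congrArg Q.map hs)).trans hφ
  rw [h3, Category.assoc, h1, Category.comp_id]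

end Groth.Agent.DCompact16
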