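import Groth.Agent.Lib.DCompact16.Bounded
import Mathlib.Algebra.Category.Grp.Colimits
import Mathlib.GroupTheory.QuotientGroup.Defs

/-! Criteria for the hypotheses of `finFac_singleFunctor_of_isGE` from functors preserving sums. -/

set_option autoImplicit false
set_option linter.style.haveILetI false
set_option linter.unusedSectionVars false
set_option backward.isDefEq.respectTransparency false
set_option backward.isDefEq.respectTransparency.types false

universe v u w

open CategoryTheory CategoryTheory.Limits Opposite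

namespace Groth.Agent.DCompact16

open scoped Classical

theorem fproj_comp {C : Type*} [Category* C] [Preadditive C] {ι : Type*} (K : ι → C) [HasCoproduct K]
    {s t : Finset ι} (h : s ⊆ t) : fproj K s ≫ fproj K t = fproj K s :=
  Sigma.hom_ext _ _ fun i => by
    rw [← Category.assoc, ι_fproj]
    split_ifs with hi
    · rw [ι_fproj, if_pos (h hi)]
    · rw [zero_comp]

variable {C : Type u} [Category.{v} C] [Preadditive C] {ι : Type w} (F : ι → C) [HasCoproduct F]
  (G : C ⥤ AddCommGrpCat.{w}) [G.Additive] [PreservesColimit (Discrete.functor F) G]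

theorem exists_fproj_eq (x : G.obj (∐ F)) : ∃ s : Finset ι, G.map (fproj F s) x = x := by
  let S : AddSubgroup (G.obj (∐ F)) :=
    { carrier := {x | ∃ s : Finset ι, G.map (fproj F s) x = x}
      zero_mem' := ⟨∅, map_zero _⟩
      add_mem' := by
        rintro a b ⟨s, hs⟩ ⟨t, ht⟩
        refine ⟨s ∪ t, (map_add _ _ _).trans ?_⟩
        have e : ∀ {u : Finset ι} {c : G.obj (∐ F)}, u ⊆ s ∪ t → G.map (fproj F u) c = c →
            G.map (fproj F (s ∪ t)) c = c := fun hu hc => by
          conv_lhs => rw [← hc]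
          rw [← ConcreteCategory.comp_apply, ← G.map_comp, fproj_comp F hu]
          exact hc
        rw [e Finset.subset_union_left hs, e Finset.subset_union_right ht]
      neg_mem' := by
        rintro a ⟨s, hs⟩
        exact ⟨s, (map_neg _ _).trans (congrArg Neg.neg hs)⟩ }
  have hq : AddCommGrpCat.ofHom (QuotientAddGroup.mk' S) = (0 : G.obj (∐ F) ⟶ AddCommGrpCat.of (G.obj (∐ F) ⧸ S)) := by
    refine Cofan.IsColimit.hom_ext (isColimitCofanMkObjOfIsColimit G _ _ (coproductIsCoproduct F)) _ _ fun i => ?_
    ext y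
    refine (QuotientAddGroup.eq_zero_iff _).2 ⟨{i}, ?_⟩
    change (G.map (Sigma.ι F i) ≫ G.map (fproj F {i})) y = G.map (Sigma.ι F i) y
    rw [← G.map_comp, ι_fproj, if_pos (Finset.mem_singleton_self i)]
  exact (QuotientAddGroup.eq_zero_iff x).1 (ConcreteCategory.congr_hom hq x)

theorem isZero_obj_sigma (h : ∀ i, IsZero (G.obj (F i))) : IsZero (G.obj (∐ F)) := by
  rw [IsZero.iff_id_eq_zero]
  exact Cofan.IsColimit.hom_ext (isColimitCofanMkObjOfIsColimit G _ _ (coproductIsCoproduct F)) _ _
    fun i => (h i).eq_of_src _ _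

end Groth.Agent.DCompact16

namespace Groth.Agent.DCompact16

open scoped Classical

variable {A : Type u} [Category.{v} A] [Abelian A] [HasExt.{v} A] (P : A) {ι : Type v} (F : ι → A) [HasCoproduct F]

theorem finSupp_of_preserves_ext [PreservesColimit (Discrete.functor F) (Abelian.extFunctorObj.{v} P 0)]
    (f : P ⟶ ∐ F) : FinSupp F f := by
  obtain ⟨s, hs⟩ := exists_fproj_eq F (Abelian.extFunctorObj.{v} P 0) (Abelian.Ext.mk₀ f)
  refine ⟨s, (Abelian.Ext.mk₀_bijective P (∐ F)).1 ?_⟩
  rw [← Abelian.Ext.mk₀_comp_mk₀]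
  exact hs

theorem subsingleton_ext_sigma {i : ℕ} [PreservesColimit (Discrete.functor F) (Abelian.extFunctorObj.{v} P i)]
    (h : ∀ t, Subsingleton (Abelian.Ext.{v} P (F t) i)) : Subsingleton (Abelian.Ext.{v} P (∐ F) i) :=
  AddCommGrpCat.subsingleton_of_isZero
    (isZero_obj_sigma F (Abelian.extFunctorObj.{v} P i) fun t =>
      haveI : Subsingleton ((Abelian.extFunctorObj.{v} P i).obj (F t)) := h t
      AddCommGrpCat.isZero_of_subsingleton _)

theorem isHomAcyclic_sigma_injective [IsGrothendieckAbelian.{v} A]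
    (h : ∀ i : ℕ, 0 < i → PreservesColimit (Discrete.functor F) (Abelian.extFunctorObj.{v} P i))
    (hF : ∀ t, Injective (F t)) : IsHomAcyclic P (∐ F) :=
  isHomAcyclic_of_ext P _ fun i hi => by
    haveI := h i hi
    refine subsingleton_ext_sigma P F fun t => ?_
    obtain ⟨n, rfl⟩ : ∃ n, n + 1 = i := ⟨i - 1, by omega⟩
    haveI := hF t
    exact subsingleton_of_forall_eq 0 fun x => x.eq_zero_of_injective

end Groth.Agent.DCompact16
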