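import Groth.Prelude.Def_CohDer
import Mathlib.CategoryTheory.Limits.Shapes.Products
import Mathlib.CategoryTheory.Preadditive.Basic
import Mathlib.Algebra.DirectSum.Basic

/-! Maps into coproducts with finite support and compact objects. -/

set_option autoImplicit false
set_option linter.style.haveILetI false
set_option linter.unusedSectionVars false
set_option backward.isDefEq.respectTransparency false
set_option backward.isDefEq.respectTransparency.types false

universe v u

open CategoryTheory CategoryTheory.Limits

namespace Groth.Agent.DCompact16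

open scoped Classical

variable {C : Type*} [Category* C] [Preadditive C] {ι : Type*} (K : ι → C) [HasCoproduct K]

/-- The projection onto finitely many summands. -/
noncomputable def fproj (s : Finset ι) : ∐ K ⟶ ∐ K :=
  Sigma.desc fun i => if i ∈ s then Sigma.ι K i else 0

theorem ι_fproj (s : Finset ι) (i : ι) :
    Sigma.ι K i ≫ fproj K s = if i ∈ s then Sigma.ι K i else 0 :=
  Sigma.ι_desc _ i

theorem fproj_eq_sum (s : Finset ι) : fproj K s = ∑ i ∈ s, Sigma.π K i ≫ Sigma.ι K i :=
  Sigma.hom_ext _ _ fun i => by
    rw [ι_fproj, Preadditive.comp_sum]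
    split_ifs with hi
    · rw [Finset.sum_eq_single i (fun b _ hb => by rw [Sigma.ι_π_of_ne_assoc K hb.symm, zero_comp])
        (fun h => absurd hi h), Sigma.ι_π_eq_id_assoc]
    · exact (Finset.sum_eq_zero fun b hb => by
        rw [Sigma.ι_π_of_ne_assoc K (show i ≠ b from fun e => hi (by rw [e]; exact hb)), zero_comp]).symm

/-- Factoring through finitely many summands. -/
def FinSupp {P : C} (f : P ⟶ ∐ K) : Prop := ∃ s : Finset ι, f ≫ fproj K s = f

section Sum

variable {D : Type u} [Category.{v} D] [Preadditive D] (P : D) {T : Type v} (M : T → D) [HasCoproduct M]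

theorem injective_homSum : Function.Injective (CohDer.homSumToHomCoprod P M) := by
  refine (injective_iff_map_eq_zero _).2 fun s hs => DFinsupp.ext fun j => ?_
  let π : ∐ M ⟶ M j := Sigma.desc fun i => if h : i = j then eqToHom (by rw [h]) else 0
  have hπ : ∀ x : DirectSum T (fun i => P ⟶ M i), CohDer.homSumToHomCoprod P M x ≫ π = x j := by
    intro x
    induction x using DirectSum.induction_on with
    | zero => simp
    | of i f =>
      rw [CohDer.homSumToHomCoprod, DirectSum.toAddMonoid_of]
      change (f ≫ Sigma.ι M i) ≫ π = _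
      rw [Category.assoc, Sigma.ι_desc]
      by_cases h : i = j
      · subst h
        simp [DirectSum.of_eq_same]
      · rw [dif_neg h, comp_zero]
        exact (DirectSum.of_eq_of_ne (β := fun i => P ⟶ M i) i j f (Ne.symm h)).symm
    | add x y hx hy => rw [map_add, Preadditive.add_comp, hx, hy]; rfl
  exact (hπ s).symm.trans (by rw [hs, zero_comp]; rfl)

theorem surjective_homSum (h : ∀ f : P ⟶ ∐ M, FinSupp M f) :
    Function.Surjective (CohDer.homSumToHomCoprod P M) := by
  intro f
  obtain ⟨s, hs⟩ := h f
  refine ⟨∑ i ∈ s, DirectSum.of (fun i => P ⟶ M i) i (f ≫ Sigma.π M i), ?_⟩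
  rw [map_sum]
  conv_rhs => rw [← hs, fproj_eq_sum, Preadditive.comp_sum]
  refine Finset.sum_congr rfl fun i _ => ?_
  rw [CohDer.homSumToHomCoprod, DirectSum.toAddMonoid_of]
  exact Category.assoc _ _ _

theorem bijective_homSum (h : ∀ f : P ⟶ ∐ M, FinSupp M f) :
    Function.Bijective (CohDer.homSumToHomCoprod P M) :=
  ⟨injective_homSum P M, surjective_homSum P M h⟩

end Sum

end Groth.Agent.DCompact16
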