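import Groth.Agent.Lib.DCompact16.FinFac
import Groth.Agent.Lib.KInj.Derived
import Groth.Agent.Lib.FinPres16.Coprod
import Groth.Agent.Lib.SiteCoh.Acyclic
import Mathlib.Algebra.Homology.DerivedCategory.KProjective

/-! Finitely factoring projective objects are compact in the derived category. -/

set_option autoImplicit false
set_option linter.style.haveILetI false
set_option linter.unusedSectionVars false
set_option backward.isDefEq.respectTransparency false
set_option backward.isDefEq.respectTransparency.types false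

universe w v u

open CategoryTheory CategoryTheory.Limits DerivedCategory

namespace Groth.Agent.DCompact16

variable {A : Type u} [Category.{v} A] [Abelian A] [HasDerivedCategory.{w} A]

theorem exists_map_eq_of_isKProjective {K L : CochainComplex A ℤ} [K.IsKProjective] (f : Q.obj K ⟶ Q.obj L) :
    ∃ φ : K ⟶ L, Q.map φ = f := by
  obtain ⟨g, hg⟩ := (CochainComplex.IsKProjective.Qh_map_bijective (C := A) K
    ((HomotopyCategory.quotient A (ComplexShape.up ℤ)).obj L)).surjective
    ((quotientCompQhIso A).hom.app K ≫ f ≫ (quotientCompQhIso A).inv.app L)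
  obtain ⟨φ, rfl⟩ := (HomotopyCategory.quotient A (ComplexShape.up ℤ)).map_surjective g
  refine ⟨φ, ?_⟩
  rw [← cancel_epi ((quotientCompQhIso A).hom.app K), ← (quotientCompQhIso A).hom.naturality φ]
  refine Eq.trans (congrArg (· ≫ (quotientCompQhIso A).hom.app L)
    (show (HomotopyCategory.quotient A (ComplexShape.up ℤ) ⋙ Qh).map φ = _ from hg)) ?_
  simp

open scoped Classical in
theorem finFac_single [HasCoproducts.{v} A] (P : A) {ι : Type v} (K : ι → CochainComplex A ℤ)
    (hfin : ∀ (F : ι → A) (f : P ⟶ ∐ F), FinSupp F f)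
    (φ : (HomologicalComplex.single A (ComplexShape.up ℤ) 0).obj P ⟶ ∐ K) : FinSupp K φ := by
  let E := HomologicalComplex.eval A (ComplexShape.up ℤ) 0
  haveI : HasColimitsOfShape (Discrete ι) A := inferInstance
  let sc := sigmaComparison E K
  obtain ⟨s, hs⟩ := hfin (fun i => E.obj (K i))
    ((HomologicalComplex.singleObjXSelf (ComplexShape.up ℤ) 0 P).inv ≫ φ.f 0 ≫ inv sc)
  refine ⟨s, HomologicalComplex.from_single_hom_ext ?_⟩
  have h : fproj (fun i => E.obj (K i)) s ≫ sc = sc ≫ E.map (fproj K s) := Sigma.hom_ext _ _ fun i => by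
    rw [← Category.assoc, ι_fproj, ι_comp_sigmaComparison_assoc, ← Functor.map_comp, ι_fproj]
    split_ifs
    · exact ι_comp_sigmaComparison E K i
    · rw [zero_comp, Functor.map_zero]
  rw [← cancel_epi (HomologicalComplex.singleObjXSelf (ComplexShape.up ℤ) 0 P).inv]
  have h2 := congrArg (· ≫ sc) hs
  simp only [Category.assoc, h, IsIso.inv_hom_id_assoc, IsIso.inv_hom_id, Category.comp_id] at h2
  exact h2

open scoped Classical in
theorem finFac_singleFunctor [IsGrothendieckAbelian.{v} A] (P : A) [Projective P] {ι : Type v}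
    (M : ι → DerivedCategory A) [HasCoproduct M] (hfin : ∀ (F : ι → A) (f : P ⟶ ∐ F), FinSupp F f)
    (f : (singleFunctor A 0).obj P ⟶ ∐ M) : FinSupp M f := by
  let K : ι → CochainComplex A ℤ := fun i => Q.objPreimage (M i)
  let ε : ∀ i, Q.obj (K i) ≅ M i := fun i => Q.objObjPreimageIso (M i)
  let c : Cofan M := Cofan.mk (Q.obj (∐ K)) fun i => (ε i).inv ≫ Q.map (Sigma.ι K i)
  let θ : ∐ M ⟶ Q.obj (∐ K) := Sigma.desc fun i => (ε i).inv ≫ Q.map (Sigma.ι K i)
  let θ' : Q.obj (∐ K) ⟶ ∐ M :=
    Cofan.IsColimit.desc (KInjLib.isColimitSigma K) fun i => (ε i).hom ≫ Sigma.ι M i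
  have hθ' : ∀ i, Q.map (Sigma.ι K i) ≫ θ' = (ε i).hom ≫ Sigma.ι M i := fun i =>
    Cofan.IsColimit.fac (KInjLib.isColimitSigma K) _ i
  have h1 : θ ≫ θ' = 𝟙 _ := Sigma.hom_ext _ _ fun i => by
    simp only [θ, Sigma.ι_desc_assoc, Category.assoc, hθ', Iso.inv_hom_id_assoc, Category.comp_id]
  haveI : CochainComplex.IsKProjective ((HomologicalComplex.single A (ComplexShape.up ℤ) 0).obj P) := by
    haveI : ∀ n, Projective (((HomologicalComplex.single A (ComplexShape.up ℤ) 0).obj P).X n) := fun n => by
      by_cases h : n = 0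
      · subst h
        exact Projective.of_iso (HomologicalComplex.singleObjXSelf (ComplexShape.up ℤ) 0 P).symm inferInstance
      · exact (HomologicalComplex.isZero_single_obj_X (ComplexShape.up ℤ) 0 P n h).projective
    haveI : CochainComplex.IsStrictlyLE ((HomologicalComplex.single A (ComplexShape.up ℤ) 0).obj P) 0 := inferInstanceAs (CochainComplex.IsStrictlyLE ((CochainComplex.singleFunctor A 0).obj P) 0)
    exact CochainComplex.isKProjective_of_projective _ 0
  obtain ⟨φ, hφ⟩ := exists_map_eq_of_isKProjective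
    (show Q.obj ((HomologicalComplex.single A (ComplexShape.up ℤ) 0).obj P) ⟶ Q.obj (∐ K) from f ≫ θ)
  obtain ⟨s, hs⟩ := finFac_single P K hfin φ
  refine ⟨s, ?_⟩
  have h2 : fproj M s = θ ≫ Q.map (fproj K s) ≫ θ' := Sigma.hom_ext _ _ fun i => by
    simp only [θ, Sigma.ι_desc_assoc, Category.assoc, ι_fproj]
    rw [← Q.map_comp_assoc, ι_fproj]
    split_ifs
    · rw [hθ', Iso.inv_hom_id_assoc]
    · simp
  rw [h2, ← Category.assoc f θ, ← Category.assoc (f ≫ θ)]
  have h3 : (f ≫ θ) ≫ Q.map (fproj K s) = f ≫ θ := by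
    change (show Q.obj ((HomologicalComplex.single A (ComplexShape.up ℤ) 0).obj P) ⟶ Q.obj (∐ K) from f ≫ θ) ≫ _ = _
    rw [← hφ]
    exact ((Q.map_comp _ _).symm.trans (congrArg Q.map hs)).trans hφ
  rw [h3, Category.assoc, h1, Category.comp_id]

end Groth.Agent.DCompact16

namespace Groth.Agent.DCompact16

open Groth.Agent.FinPres16

universe u'

variable {C : Type u'} [SmallCategory C] {J : GrothendieckTopology C} (O : Sheaf J CommRingCat.{u'})

theorem projective_freeOn {U : C} (hwc : CohSite.IsWeaklyContractible J U) : Projective (ModSite.freeOn O U) where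
  factors {E X} f e _ := by
    haveI : PreservesFiniteColimits (SheafOfModules.toSheaf (ModSite.ringSh O)) :=
      haveI : PreservesColimitsOfSize.{u', u'} (SheafOfModules.toSheaf (ModSite.ringSh O)) := ⟨inferInstance⟩
      PreservesColimitsOfSize.preservesFiniteColimits _
    haveI : Epi ((SheafOfModules.toSheaf (ModSite.ringSh O)).map e) := inferInstance
    obtain ⟨y, hy⟩ := SiteCoh.surjective_of_weaklyContractible hwc ((SheafOfModules.toSheaf (ModSite.ringSh O)).map e)
      (ModFlat16.freeOnHom O U X f)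
    refine ⟨(ModFlat16.freeOnHom O U E).symm y, (ModFlat16.freeOnHom O U X).injective ?_⟩
    rw [ModFlat16.freeOnHom_comp, Equiv.apply_symm_apply]
    exact hy

open scoped Classical in
theorem finFac_freeOn {U : C} (hU : QcAt J U) {ι : Type u'} (F : ι → ModSite.Mod O) (f : ModSite.freeOn O U ⟶ ∐ F) :
    FinSupp F f := by
  obtain ⟨S, -, hx⟩ := exists_finite_sum F hU (ModFlat16.freeOnHom O U (∐ F) f)
  refine ⟨S, (ModFlat16.freeOnHom O U (∐ F)).injective ?_⟩
  rw [ModFlat16.freeOnHom_comp]
  refine (congrArg (fun x => (fproj F S).val.app (Opposite.op U) x) hx).trans ((map_sum _ _ _).trans ?_)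
  refine Eq.trans (Finset.sum_congr rfl fun i hi => ?_) hx.symm
  exact congrArg (fun q : F i ⟶ ∐ F => q.val.app (Opposite.op U) ((coprodProj F i).val.app (Opposite.op U) _))
    ((ι_fproj F S i).trans (if_pos hi))

end Groth.Agent.DCompact16
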