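import Groth.Agent.Lib.DCompact16.Ext
import Groth.Agent.Lib.Adapted8.Acyclic

/-! Compactness in the unbounded derived category of objects of finite cohomological dimension. -/

set_option autoImplicit false
set_option linter.style.haveILetI false
set_option linter.unusedSectionVars false
set_option backward.isDefEq.respectTransparency false
set_option backward.isDefEq.respectTransparency.types false

universe w v u

open CategoryTheory CategoryTheory.Limits DerivedCategory Opposite

namespace Groth.Agent.DCompact16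

open scoped Classical

variable {A : Type u} [Category.{v} A] [Abelian A] [IsGrothendieckAbelian.{v} A] [HasDerivedCategory.{w} A]

/-- Finite support of maps from an object of finite cohomological dimension into arbitrary sums. -/
theorem finFac_singleFunctor_of_cd [HasExt.{v} A] (P : A) (d : ℕ) (hd : ∀ X : A, Subsingleton (Abelian.Ext.{v} P X d))
    {ι : Type v} (M : ι → DerivedCategory A) [HasCoproduct M]
    (hfin : ∀ (F : ι → A) (f : P ⟶ ∐ F), FinSupp F f)
    (hP : ∀ (F : ι → A), (∀ i, Injective (F i)) → IsHomAcyclic P (∐ F))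
    (f : (singleFunctor A 0).obj P ⟶ ∐ M) : FinSupp M f := by
  let F := preadditiveCoyoneda.obj (op P)
  have hn : ∀ X : A, IsZero ((F.rightDerived d).obj X) := fun X => by
    haveI := hd X
    exact (AddCommGrpCat.isZero_of_subsingleton _).of_iso (ExtDerived.rightDerivedCoyonedaIso P d X)
  have hK : ∀ i, ∃ K : CochainComplex A ℤ, (∀ n, Injective (K.X n)) ∧ Nonempty (Q.obj K ≅ M i) := by
    intro i
    obtain ⟨I, g, -, hg, -, hI⟩ := KInjLib.exists_resolution (Q.objPreimage (M i))
    exact ⟨I, hI, ⟨(asIso (Q.map g)).symm ≪≫ Q.objObjPreimageIso (M i)⟩⟩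
  choose K hKinj ε using hK
  replace ε := fun i => (ε i).some
  let L := ∐ K
  have hLX : ∀ m, IsHomAcyclic P (L.X m) := fun m i hi =>
    (hP (fun t => (K t).X m) (fun t => hKinj t m) i hi).of_iso
      (((preadditiveCoyoneda.obj (op P)).rightDerived i).mapIso
        (PreservesCoproduct.iso (HomologicalComplex.eval A (ComplexShape.up ℤ) m) K))
  let θ : ∐ M ⟶ Q.obj L := Sigma.desc fun i => (ε i).inv ≫ Q.map (Sigma.ι K i)
  let θ' : Q.obj L ⟶ ∐ M :=
    Cofan.IsColimit.desc (KInjLib.isColimitSigma K) fun i => (ε i).hom ≫ Sigma.ι M i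
  have hθ' : ∀ i, Q.map (Sigma.ι K i) ≫ θ' = (ε i).hom ≫ Sigma.ι M i := fun i =>
    Cofan.IsColimit.fac (KInjLib.isColimitSigma K) _ i
  have h1 : θ ≫ θ' = 𝟙 _ := Sigma.hom_ext _ _ fun i => by
    simp only [θ, Sigma.ι_desc_assoc, Category.assoc, hθ', Iso.inv_hom_id_assoc, Category.comp_id]
  obtain ⟨J, j, hJ, hj, -, hJi⟩ := KInjLib.exists_resolution L
  haveI := hJ; haveI := hj; haveI := hJi
  obtain ⟨φ, hφ⟩ := exists_map_eq_of_cone P j
    (Adapted8.acyclic_map F hn _ ((RFPlus.quasiIso_iff_acyclic_cone j).1 hj) (isHomAcyclic_mappingCone P j hLX))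
    (show Q.obj ((CochainComplex.singleFunctor A 0).obj P) ⟶ Q.obj L from f ≫ θ)
  obtain ⟨s, hs⟩ := finFac_single P K hfin φ
  refine ⟨s, ?_⟩
  have h2 : fproj M s = θ ≫ Q.map (fproj K s) ≫ θ' := Sigma.hom_ext _ _ fun i => by
    simp only [θ, Sigma.ι_desc_assoc, Category.assoc, ι_fproj]
    rw [← Q.map_comp_assoc, ι_fproj]
    split_ifs
    · rw [hθ', Iso.inv_hom_id_assoc]
    · simp
  rw [h2, ← Category.assoc f θ, ← Category.assoc (f ≫ θ)]
  have h3 : (f ≫ θ) ≫ Q.map (fproj K s) = f ≫ θ := by
    change (show Q.obj ((CochainComplex.singleFunctor A 0).obj P) ⟶ Q.obj L from f ≫ θ) ≫ _ = _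
    rw [← hφ]
    exact ((Q.map_comp _ _).symm.trans (congrArg Q.map hs)).trans hφ
  rw [h3, Category.assoc, h1, Category.comp_id]

end Groth.Agent.DCompact16
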